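import Cfsg.Agent.Lib.Comp.McN.Base

set_option maxRecDepth 100000
set_option Elab.async false

namespace Cfsg.Lib.Comp.McN

universe u

noncomputable def T1_R : List (List ℕ × ℕ) := [([1],1),
 ([2],1),
 ([3],1),
 ([4],1),
 ([5],1),
 ([6],1),
 ([7],1),
 ([1,2],1),
 ([1,3],1),
 ([1,4],1),
 ([1,5],1),
 ([1,6],1),
 ([1,7],1),
 ([2,3],1),
 ([2,4],1),
 ([2,5],1),
 ([2,6],1),
 ([2,7,2,7,1],0),
 ([3,4],1),
 ([3,5,3,5,1],0),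
 ([3,6,3,6,2],0),
 ([3,7,3,7,1],0),
 ([4,5,4,5,2,1],0),
 ([4,6,4,6,1],0),
 ([4,7,4,7,3,2,1],0),
 ([5,6],1),
 ([5,7],1),
 ([6,7,6,7,5],0)]

noncomputable def T1_n_5 : Net :=
 (Net.cons 4 (nat_lit 0xc)
 (Net.cons 1 (nat_lit 0x5)
 (Net.cons 2 (nat_lit 0x30)
 (Net.cons 4 (nat_lit 0xc)
 Net.nil))))

noncomputable def T1_n_6 : Net :=
 (Net.cons 4 (nat_lit 0x4)
 (Net.cons 2 (nat_lit 0x2)
 (Net.cons 1 (nat_lit 0x14)
 (Net.cons 2 (nat_lit 0x13)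
 (Net.cons 4 (nat_lit 0xb)
 Net.nil)))))

noncomputable def T1_n_7 : Net :=
 (Net.cons 2 (nat_lit 0x22)
 (Net.cons 1 (nat_lit 0x11)
 (Net.cons 2 (nat_lit 0x22)
 (Net.cons 4 (nat_lit 0x6)
 Net.nil))))

noncomputable def T1_n : List Net := [Net.nil,
 Net.nil,
 Net.nil,
 Net.nil,
 Net.nil,
 T1_n_5,
 T1_n_6,
 T1_n_7]

theorem T1_n_ok : NetsOK 8 T1_n := netsOK_of (by decide +kernel)

theorem T1_n_rel : Rels (gp T1_n) T1_R := rels_of_relsB (k := 3) T1_n_ok (by norm_num) (by decide +kernel)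

theorem T1_fin : finB 8 T1_n [1,2,3,4,5,6,7] 8 (runH 8 T1_n (fun x p => ptInv (nth Net.nil T1_n x) p) iv T1_R [] ([1,2,3,4].map fun x => [x]) 0 []
  [1,5,9,13,16,20,24,40,44,48,60,64,68,76,80,84,88,92,96,100,104,108]
  (defsH 8 T1_n (ones 80) [5,6,7] (Nat.shiftLeft 1 0) 0)) = true := by decide +kernel

theorem T1_idx : Idx.{u} iv (T1_R ++ []) ([1,2,3,4].map fun x => [x]) [1,2,3,4,5,6,7] 8 :=
  Reach.idx T1_n_ok (reach_runH T1_n_ok (fun x p _ => ptInv_gp T1_n_ok x p) T1_n_rel (reach_defsH T1_n_ok _ _ _ _ _ _) _ _) T1_fin (by norm_num)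

end Cfsg.Lib.Comp.McN
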