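import Cfsg.Agent.Lib.Comp.McN.Base

set_option maxRecDepth 100000
set_option Elab.async false

namespace Cfsg.Lib.Comp.McN

universe u

noncomputable def T2_R : List (List ℕ × ℕ) := [([1],1),
 ([2],1),
 ([3],1),
 ([4],1),
 ([1,2],1),
 ([1,3],1),
 ([1,4],1),
 ([2,3],1),
 ([2,4],1),
 ([3,4],1)]

noncomputable def T2_n_1 : Net :=
 (Net.cons 4 (nat_lit 0x804)
 (Net.cons 1 (nat_lit 0x5555)
 (Net.cons 2 (nat_lit 0x1230)
 (Net.cons 4 (nat_lit 0x704)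
 Net.nil))))

noncomputable def T2_n_2 : Net :=
 (Net.cons 8 (nat_lit 0x28)
 (Net.cons 4 (nat_lit 0x80c)
 (Net.cons 2 (nat_lit 0x2020)
 (Net.cons 1 (nat_lit 0x1114)
 (Net.cons 2 (nat_lit 0x2211)
 (Net.cons 4 (nat_lit 0x703)
 (Net.cons 8 (nat_lit 0x9a)
 Net.nil)))))))

noncomputable def T2_n_3 : Net :=
 (Net.cons 8 (nat_lit 0xa8)
 (Net.cons 4 (nat_lit 0xa00)
 (Net.cons 1 (nat_lit 0x5041)
 (Net.cons 2 (nat_lit 0x3333)
 (Net.cons 4 (nat_lit 0x306)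
 (Net.cons 8 (nat_lit 0x15)
 Net.nil))))))

noncomputable def T2_n_4 : Net :=
 (Net.cons 8 (nat_lit 0xa0)
 (Net.cons 4 (nat_lit 0xa00)
 (Net.cons 2 (nat_lit 0x220)
 (Net.cons 1 (nat_lit 0x1444)
 (Net.cons 2 (nat_lit 0x1122)
 (Net.cons 4 (nat_lit 0x509)
 (Net.cons 8 (nat_lit 0x2e)
 Net.nil)))))))

noncomputable def T2_n : List Net := [Net.nil,
 T2_n_1,
 T2_n_2,
 T2_n_3,
 T2_n_4]

theorem T2_n_ok : NetsOK 16 T2_n := netsOK_of (by decide +kernel)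

theorem T2_n_rel : Rels (gp T2_n) T2_R := rels_of_relsB (k := 4) T2_n_ok (by norm_num) (by decide +kernel)

theorem T2_fin : finB 16 T2_n [1,2,3,4] 16 (runH 16 T2_n (fun x p => ptInv (nth Net.nil T2_n x) p) iv T2_R [] ([].map fun x => [x]) 0 []
  [0,4,8,12,16,20,24,28,32,36]
  (defsH 16 T2_n (ones 160) [1,2,3,4] (Nat.shiftLeft 1 0) 0)) = true := by decide +kernel

theorem T2_idx : Idx.{u} iv (T2_R ++ []) ([].map fun x => [x]) [1,2,3,4] 16 :=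
  Reach.idx T2_n_ok (reach_runH T2_n_ok (fun x p _ => ptInv_gp T2_n_ok x p) T2_n_rel (reach_defsH T2_n_ok _ _ _ _ _ _) _ _) T2_fin (by norm_num)

end Cfsg.Lib.Comp.McN
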